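import Cfsg.Agent.H756.PU.Engine
import Cfsg.Agent.H802.FusEss

/-!
# S5258, PU-G0: an essential subgroup gives the structure `Ess` (helper245)
-/

set_option autoImplicit false

namespace Cfsg.Agent.H245.PU

open Cfsg Cfsg.FusionSystem Cfsg.Agent.H802 Cfsg.Agent.H756.PU

universe u

theorem stEss : StEss.{u} := by
  intro Ω _ S _ p _ F Q hS hF hQ
  obtain ⟨hQc, hQn, hnormal, E, hE⟩ := hQ
  have hQS := hQn.1
  have hfinQ : Finite Q := finite_of_le hQS
  have hp : p.Prime := Fact.out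
  have hC : centralizerIn S Q ≤ Q := hQc.2 Q (isConj_refl F hQS)
  set A := F.autGroup Q with hA
  obtain ⟨R, hR⟩ : ∃ R : Sylow p A, (R : Subgroup A) = (autInducedBy S Q).subgroupOf A :=
    (isFullyAutomized_of_isFullyNormalized hS hF hQn).2
  have hindu : autInducedBy S Q ≤ A := autInducedBy_le_autGroup F hQS
  have hfA : Finite (MulAut Q) := inferInstance
  refine
    { pp := hp
      fin := inferInstance
      pgr := hS
      E_le := hQS
      cent := fun x hx h => hC ⟨hx, Subgroup.mem_centralizer_iff.2 fun e he => (h e he).symm⟩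
      indu := hindu
      syl := ?_
      spe := ?_ }
  · intro P hP hPp
    have hP' : IsPGroup p (P.subgroupOf A) := hPp.comap_of_injective A.subtype A.subtype_injective
    obtain ⟨T, hT⟩ := hP'.exists_le_sylow
    obtain ⟨g, hg⟩ := MulAction.exists_smul_eq A T R
    refine ⟨g, g.2, fun x hx => ?_⟩
    have h1 : g * (⟨x, hP hx⟩ : A) * g⁻¹ ∈ (R : Subgroup A) := by
      rw [← hg, Sylow.coe_subgroup_smul]
      exact ⟨⟨x, hP hx⟩, hT hx, rfl⟩
    rw [hR] at h1
    exact h1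
  · set I := (Inn Q).subgroupOf A with hI
    set π : A →* A ⧸ I := QuotientGroup.mk' I with hπ
    have hπs : Function.Surjective π := QuotientGroup.mk'_surjective I
    have hker : ∀ a : A, π a = 1 ↔ (a : MulAut Q) ∈ Inn Q := by
      intro a
      rw [hπ, QuotientGroup.mk'_apply, QuotientGroup.eq_one_iff, hI, Subgroup.mem_subgroupOf]
    set P : Sylow p (A ⧸ I) := R.mapSurjective hπs with hP
    obtain ⟨hdvd, htop, P₀, hP₀⟩ := hE
    have hP₀E : (P₀ : Subgroup (A ⧸ I)) ≤ E := EvenType.StrongP.sylow_le hdvd hP₀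
    have hN₀ := EvenType.StrongP.normIn_of_core hdvd hP₀
    obtain ⟨b, hb⟩ := MulAction.exists_smul_eq (A ⧸ I) P₀ P
    set E₁ := E.map (MulAut.conj b).toMonoidHom with hE₁
    have hN₁ : EvenType.StrongP.NormIn p E₁ := hN₀.conj b
    have hPE : (P : Subgroup (A ⧸ I)) ≤ E₁ := by
      rw [← hb, Sylow.coe_subgroup_smul]
      rintro _ ⟨x, hx, rfl⟩
      exact ⟨x, hP₀E hx, rfl⟩
    have hE₁top : E₁ ≠ ⊤ := by
      intro h
      apply htop
      rw [eq_top_iff]
      intro y _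
      have h1 : b * y * b⁻¹ ∈ E₁ := by rw [h]; exact Subgroup.mem_top _
      rw [hE₁, EvenType.StrongP.mem_map_conj] at h1
      have e : b⁻¹ * (b * y * b⁻¹) * b = y := by group
      rwa [e] at h1
    have hmem : ∀ (a : MulAut Q) (ha : a ∈ A), a ∈ (E₁.comap π).map A.subtype ↔ π ⟨a, ha⟩ ∈ E₁ := by
      intro a ha
      constructor
      · rintro ⟨a', ha', rfl⟩
        exact ha'
      · intro h
        exact ⟨⟨a, ha⟩, h, rfl⟩
    refine ⟨(E₁.comap π).map A.subtype, ?_, ?_, ?_, ?_, ?_⟩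
    · rintro _ ⟨a, -, rfl⟩
      exact a.2
    · intro h
      apply hE₁top
      rw [eq_top_iff]
      intro y _
      obtain ⟨a, rfl⟩ := hπs y
      exact (hmem a a.2).1 (by rw [h]; exact a.2)
    · intro γ hγ
      rw [hmem γ (hindu hγ)]
      apply hPE
      have : π ⟨γ, hindu hγ⟩ ∈ (R : Subgroup A).map π := ⟨⟨γ, hindu hγ⟩, by rw [hR]; exact hγ, rfl⟩
      exact this
    · intro h
      have hPb : (P : Subgroup (A ⧸ I)) = ⊥ := by
        rw [eq_bot_iff]
        intro y hy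
        obtain ⟨a, ha, rfl⟩ : y ∈ (R : Subgroup A).map π := hy
        rw [hR] at ha
        rw [Subgroup.mem_bot, hker]
        exact h ha
      have h1 := P.not_dvd_index
      rw [hPb, Subgroup.index_bot] at h1
      exact h1 hdvd
    · intro g hg hgH x hx hgx hk
      obtain ⟨k, hk⟩ := hk
      have hxA : x ∈ A := by
        obtain ⟨a, -, rfl⟩ := hx
        exact a.2
      have hgxA : g * x * g⁻¹ ∈ A := A.mul_mem (A.mul_mem hg hxA) (A.inv_mem hg)
      rw [hmem x hxA] at hx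
      rw [hmem _ hgxA] at hgx
      rw [hmem g hg] at hgH
      have hgg : π ⟨g * x * g⁻¹, hgxA⟩ = π ⟨g, hg⟩ * π ⟨x, hxA⟩ * (π ⟨g, hg⟩)⁻¹ := by
        rw [← map_inv, ← map_mul, ← map_mul]
        rfl
      by_contra hxI
      have hx1 : π ⟨g * x * g⁻¹, hgxA⟩ ≠ 1 := by
        rw [hgg, Ne, mul_inv_eq_one, mul_eq_left, hker]
        exact hxI
      apply hN₁.inter hgH
      have hxm : π ⟨g * x * g⁻¹, hgxA⟩ ∈ E₁ ⊓ E₁.map (MulAut.conj (π ⟨g, hg⟩)).toMonoidHom :=
        ⟨hgx, π ⟨x, hxA⟩, hx, hgg.symm⟩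
      have hk' : π ⟨g * x * g⁻¹, hgxA⟩ ^ p ^ k = 1 := by
        rw [← map_pow]
        have e : (⟨g * x * g⁻¹, hgxA⟩ : A) ^ p ^ k = 1 := by
          apply Subtype.ext
          show (g * x * g⁻¹) ^ p ^ k = 1
          rw [conj_pow, hk, mul_one, mul_inv_cancel]
        rw [e, map_one]
      have hord : p ∣ orderOf (π ⟨g * x * g⁻¹, hgxA⟩) := by
        have h1 := orderOf_dvd_of_pow_eq_one hk'
        obtain ⟨m, -, hm⟩ := (Nat.dvd_prime_pow hp).1 h1
        rw [hm]
        refine dvd_pow_self p ?_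
        rintro rfl
        rw [pow_zero] at hm
        exact hx1 (orderOf_eq_one_iff.1 hm)
      refine hord.trans ?_
      have h2 : orderOf (⟨_, hxm⟩ : ↥(E₁ ⊓ E₁.map (MulAut.conj (π ⟨g, hg⟩)).toMonoidHom)) =
          orderOf (π ⟨g * x * g⁻¹, hgxA⟩) := Subgroup.orderOf_mk _ _
      rw [← h2]
      exact orderOf_dvd_natCard _

end Cfsg.Agent.H245.PU
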